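import Groth.Agent.SmoothPairLib.Scheme

/-!
# Local structure of a smooth closed subscheme
-/

set_option autoImplicit false
set_option backward.isDefEq.respectTransparency false
set_option linter.style.haveILetI false

universe u

open CategoryTheory CategoryTheory.Limits AlgebraicGeometry TopologicalSpace Groth.Agent

noncomputable section

namespace Groth.Agent.SmoothPairLib

/-- Adapted etale coordinates on an affine open. -/
theorem exists_chart {S X Y : Scheme.{u}} (pX : X ⟶ S) (pY : Y ⟶ S) [Smooth pX] [Smooth pY]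
    (i : Y ⟶ X) [IsClosedImmersion i] (w : i ≫ pX = pY) (y : Y) :
    ∃ (U : X.Opens) (_ : IsAffineOpen U) (r m : ℕ) (v : Fin r ⊕ Fin m → Γ(X, U)), i y ∈ U ∧
      Etale (AffineSpace.homOfVector (U.ι ≫ pX) fun j : ULift.{u} (Fin m ⊕ Fin r) => U.topIso.inv (v j.down.swap)) ∧
      RingHom.ker (i.app U).hom = Ideal.span (Set.range fun k => v (Sum.inl k)) := by
  obtain ⟨_, ⟨V : S.Opens, hV, rfl⟩, hyV, -⟩ :=
    S.isBasis_affineOpens.exists_subset_of_mem_open (Set.mem_univ (pX (i y))) isOpen_univ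
  obtain ⟨_, ⟨U₀ : X.Opens, hU₀, rfl⟩, hyU₀, hUV⟩ := X.isBasis_affineOpens.exists_subset_of_mem_open
    (show i y ∈ ((pX ⁻¹ᵁ V : X.Opens) : Set X) from hyV) (pX ⁻¹ᵁ V).2
  have e : U₀ ≤ pX ⁻¹ᵁ V := hUV
  have hW : IsAffineOpen (i ⁻¹ᵁ U₀) := hU₀.preimage i
  let A := Γ(S, V)
  let B := Γ(X, U₀)
  letI : Algebra A B := (pX.appLE V U₀ e).hom.toAlgebra
  haveI : Algebra.FinitePresentation A B :=
    LocallyOfFinitePresentation.finitePresentation_appLE (f := pX) hV hU₀ e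
  have eY : i ⁻¹ᵁ U₀ ≤ pY ⁻¹ᵁ V := by rw [← w, Scheme.Hom.comp_preimage]; exact i.preimage_mono e
  let J : Ideal B := RingHom.ker (i.app U₀).hom
  have hsurj : Function.Surjective (i.app U₀).hom := i.app_surjective U₀ hU₀
  have hcomp : (i.app U₀).hom.comp (pX.appLE V U₀ e).hom = (pY.appLE V (i ⁻¹ᵁ U₀) eY).hom := by
    rw [← CommRingCat.hom_comp]
    congr 1
    rw [show i.app U₀ = i.appLE U₀ (i ⁻¹ᵁ U₀) le_rfl from i.app_eq_appLE, Scheme.Hom.appLE_comp_appLE]
    simp only [w]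
  letI : Algebra A Γ(Y, i ⁻¹ᵁ U₀) := (pY.appLE V (i ⁻¹ᵁ U₀) eY).hom.toAlgebra
  haveI : Algebra.FinitePresentation A Γ(Y, i ⁻¹ᵁ U₀) :=
    LocallyOfFinitePresentation.finitePresentation_appLE (f := pY) hV hW eY
  let π : B →ₐ[A] Γ(Y, i ⁻¹ᵁ U₀) := { (i.app U₀).hom with commutes' := RingHom.congr_fun hcomp }
  have hJ : J.FG := Algebra.FinitePresentation.ker_fG_of_surjective π hsurj
  let q := (hU₀.primeIdealOf ⟨i y, hyU₀⟩).asIdeal
  let εq : (B ⧸ J) ≃ₐ[A] Γ(Y, i ⁻¹ᵁ U₀) := Ideal.quotientKerAlgEquivOfSurjective hsurj (f := π)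
  haveI : Algebra.Smooth A Γ(Y, i ⁻¹ᵁ U₀) := pY.smooth_appLE hV hW eY
  haveI : Algebra.Smooth A B := pX.smooth_appLE hV hU₀ e
  haveI : Algebra.Smooth A (B ⧸ J) := Algebra.Smooth.of_equiv εq.symm
  have hJq : J ≤ q := by
    intro b hb
    by_contra hna
    have h1 : y ∈ Y.basicOpen (i.app U₀ b) := by
      rw [← i.preimage_basicOpen]
      exact (RegKindDescLib.mem_basicOpen_iff hU₀ ⟨i y, hyU₀⟩ b).1 hna
    rw [RingHom.mem_ker.1 hb, Scheme.basicOpen_zero] at h1
    exact h1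
  let Q : Ideal (B ⧸ J) := q.map (Ideal.Quotient.mk J)
  haveI : Q.IsPrime := Ideal.map_isPrime_of_surjective Ideal.Quotient.mk_surjective (by rwa [Ideal.mk_ker])
  have hQ : Q.comap (Ideal.Quotient.mk J) = q := by
    rw [Ideal.comap_map_of_surjective _ Ideal.Quotient.mk_surjective, ← RingHom.ker_eq_comap_bot, Ideal.mk_ker,
      sup_eq_left.2 hJq]
  obtain ⟨r, g, hg, hgen, hmin⟩ := exists_gens J hJ q
  obtain ⟨f, hf, m, g', het, hgen'⟩ := Groth.Agent.S2818.result A B J hJ q hJq Q hQ r g hg hgen hmin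
  let U := X.basicOpen f
  have hUle : U ≤ U₀ := X.basicOpen_le f
  have hU : IsAffineOpen U := hU₀.basicOpen f
  let θ : B →+* Γ(X, U) := (X.presheaf.map (homOfLE hUle).op).hom
  letI : Algebra B Γ(X, U) := θ.toAlgebra
  haveI : IsLocalization.Away f Γ(X, U) := hU₀.isLocalization_basicOpen f
  let ε : Localization.Away f ≃ₐ[B] Γ(X, U) := IsLocalization.algEquiv (Submonoid.powers f) _ _
  let v : Fin r ⊕ Fin m → Γ(X, U) := fun k => ε (Sum.elim (fun a => algebraMap B (Localization.Away f) (g a)) g' k)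
  refine ⟨U, hU, r, m, v, (RegKindDescLib.mem_basicOpen_iff hU₀ ⟨i y, hyU₀⟩ f).1 hf, ?_, ?_⟩
  · have eU : U ≤ pX ⁻¹ᵁ V := hUle.trans e
    let ren : MvPolynomial (ULift.{u} (Fin m ⊕ Fin r)) A ≃ₐ[A] MvPolynomial (Fin r ⊕ Fin m) A :=
      MvPolynomial.renameEquiv A (Equiv.ulift.trans (Equiv.sumComm (Fin m) (Fin r)))
    let α := (MvPolynomial.aeval (Sum.elim (fun a => algebraMap B (Localization.Away f) (g a)) g') :
      MvPolynomial (Fin r ⊕ Fin m) A →ₐ[A] Localization.Away f)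
    let χ : MvPolynomial (ULift.{u} (Fin m ⊕ Fin r)) A →+* Γ(X, U) :=
      ε.toRingEquiv.toRingHom.comp (α.toRingHom.comp ren.toRingEquiv.toRingHom)
    have hC : χ.comp MvPolynomial.C = (pX.appLE V U eU).hom := by
      refine RingHom.ext fun a => ?_
      show ε (α (ren (MvPolynomial.C a))) = _
      rw [show ren (MvPolynomial.C a) = MvPolynomial.C a from MvPolynomial.rename_C _ a]
      rw [show α (MvPolynomial.C a) = algebraMap A (Localization.Away f) a from α.commutes a,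
        IsScalarTower.algebraMap_apply A B (Localization.Away f), ε.commutes]
      show (pX.appLE V U₀ e ≫ X.presheaf.map (homOfLE hUle).op) a = _
      rw [Scheme.Hom.appLE_map]
    have hχ : χ.Etale := by
      refine RingHom.Etale.respectsIso.1 _ ε.toRingEquiv ?_
      exact RingHom.Etale.respectsIso.2 _ ren.toRingEquiv het
    have hvj : ∀ j : ULift.{u} (Fin m ⊕ Fin r), v j.down.swap = χ (MvPolynomial.X j) := fun j => by
      show ε _ = ε (α (ren (MvPolynomial.X j)))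
      rw [show ren (MvPolynomial.X j) = MvPolynomial.X j.down.swap from MvPolynomial.rename_X _ j,
        MvPolynomial.aeval_X]
    simp only [hvj]
    exact etale_homOfVector pX hV hU eU χ hC hχ
  · rw [SplitQuotLib.ker_res i hU₀ (IsZariskiLocalAtTarget.restrict (P := @IsClosedImmersion) inferInstance U₀) hU hUle]
    have h1 : ((𝟙 X : X ⟶ X).appLE U₀ U hUle).hom = ε.toRingEquiv.toRingHom.comp (algebraMap B (Localization.Away f)) := by
      refine RingHom.ext fun b => ?_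
      show _ = ε (algebraMap B _ b)
      rw [ε.commutes]
      simp [Scheme.Hom.appLE]
      rfl
    rw [h1, ← Ideal.map_map, hgen', Ideal.map_span, ← Set.range_comp]
    rfl

/-- The local structure of a smooth pair. -/
theorem local_structure {S X Y : Scheme.{u}} (pX : X ⟶ S) (pY : Y ⟶ S) [Smooth pX] [Smooth pY]
    (i : Y ⟶ X) [IsClosedImmersion i] (w : i ≫ pX = pY) (y : Y) :
    ∃ (U : X.Opens) (m n : ℕ) (π : (U : Scheme.{u}) ⟶ 𝔸(ULift.{u} (Fin m ⊕ Fin n); S)) (ρ : (↑(i ⁻¹ᵁ U) : Scheme.{u}) ⟶ 𝔸(ULift.{u} (Fin m); S)),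
      i y ∈ U ∧ Etale π ∧ π ≫ (𝔸(ULift.{u} (Fin m ⊕ Fin n); S) ↘ S) = U.ι ≫ pX ∧
      IsPullback ρ (i ∣_ U)
        (AffineSpace.homOfVector (𝔸(ULift.{u} (Fin m); S) ↘ S)
          (fun j : ULift.{u} (Fin m ⊕ Fin n) => Sum.elim (fun a => AffineSpace.coord S (ULift.up a)) (fun _ => 0) j.down))
        π := by
  obtain ⟨U, hU, r, m, v, hy, het, hker⟩ := exists_chart pX pY i w y
  haveI : IsAffine (U : Scheme.{u}) := hU
  let v' : ULift.{u} (Fin m ⊕ Fin r) → Γ(U, ⊤) := fun j => U.topIso.inv (v j.down.swap)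
  let ι₁ : ULift.{u} (Fin m) → ULift.{u} (Fin m ⊕ Fin r) := fun a => ULift.up (Sum.inl a.down)
  refine ⟨U, m, r, AffineSpace.homOfVector (U.ι ≫ pX) v', _, hy, het, AffineSpace.homOfVector_over _ _,
    isPullback_of_gens (i ∣_ U) (U.ι ≫ pX) v' ι₁ _ (fun a => rfl) (fun j hj => ?_) ?_ ?_⟩
  · rcases j with ⟨a | b⟩
    · exact absurd ⟨⟨a⟩, rfl⟩ hj
    · rfl
  · have hrange : v' '' (Set.range ι₁)ᶜ = Set.range fun k => U.topIso.inv (v (Sum.inl k)) := by
      ext z
      constructor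
      · rintro ⟨⟨a | b⟩, hj, rfl⟩
        · exact absurd ⟨⟨a⟩, rfl⟩ hj
        · exact ⟨b, rfl⟩
      · rintro ⟨b, rfl⟩
        exact ⟨⟨Sum.inr b⟩, fun ⟨a, ha⟩ => by simp [ι₁] at ha, rfl⟩
    have happ : (i ∣_ U).appTop = U.topIso.hom ≫ i.app U ≫ (i ⁻¹ᵁ U).topIso.inv := by
      simp [morphismRestrict_appTop, Scheme.Opens.topIso, ← Functor.map_comp]
      rfl
    rw [hrange, happ, CommRingCat.hom_comp, CommRingCat.hom_comp, RingHom.comp_assoc,
      RingHom.ker_comp_of_injective _ (ConcreteCategory.bijective_of_isIso (i ⁻¹ᵁ U).topIso.inv).1,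
      ← RingHom.comap_ker, hker]
    refine (Ideal.comap_symm U.topIso.symm.commRingCatIsoToRingEquiv).trans ?_
    rw [Ideal.map_span, ← Set.range_comp]
    rfl
  · exact fun a b h => ULift.ext _ _ (Sum.inl_injective (ULift.up_injective h))

end Groth.Agent.SmoothPairLib
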