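import Mathlib
import Groth.Agent.S2818

/-!
# Adapted coordinates of a smooth pair
-/

set_option autoImplicit false
set_option backward.isDefEq.respectTransparency false
set_option linter.style.haveILetI false

universe u

open TensorProduct

namespace Groth.Agent.SmoothPairLib

/-- Generators of an ideal with minimal number at a prime. -/
theorem exists_gens {B : Type u} [CommRing B] (J : Ideal B) (hJ : J.FG) (q : Ideal B) [q.IsPrime] :
    ∃ (r : ℕ) (g : Fin r → B), (∀ i, g i ∈ J) ∧
      J.map (algebraMap B (Localization.AtPrime q)) =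
        Ideal.span (Set.range fun i => algebraMap B (Localization.AtPrime q) (g i)) ∧
      r = Module.finrank q.ResidueField (q.ResidueField ⊗[B] J) := by
  classical
  let k := q.ResidueField
  haveI : Module.Finite B J := Module.Finite.iff_fg.2 hJ
  let t : J → k ⊗[B] J := fun x => 1 ⊗ₜ x
  have hsp : Submodule.span k (Set.range t) = ⊤ := by
    refine top_le_iff.1 fun z _ => ?_
    induction z using TensorProduct.induction_on with
    | zero => exact zero_mem _
    | tmul c x =>
      have : c ⊗ₜ[B] x = c • t x := by rw [TensorProduct.smul_tmul', smul_eq_mul, mul_one]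
      rw [this]
      exact Submodule.smul_mem _ _ (Submodule.subset_span ⟨x, rfl⟩)
    | add a b ha hb => exact add_mem (ha trivial) (hb trivial)
  obtain ⟨s, hs, hspan, hli⟩ := exists_linearIndependent k (Set.range t)
  rw [hsp] at hspan
  let bs : Module.Basis s k (k ⊗[B] J) := Module.Basis.mk hli (by rw [Subtype.range_coe_subtype, Set.setOf_mem_eq, hspan])
  haveI : Finite s := Module.Finite.finite_basis bs
  haveI : Fintype s := Fintype.ofFinite s
  let e := (Fintype.equivFin s).symm
  choose x hx using fun z : s => hs z.2
  refine ⟨Fintype.card s, fun i => (x (e i) : B), fun i => (x (e i)).2, ?_,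
    by rw [Module.finrank_eq_card_basis bs]⟩
  let N : Submodule B J := Submodule.span B (Set.range fun i => x (e i))
  have hN : Subsingleton (k ⊗[B] (↥J ⧸ N)) := by
    refine subsingleton_of_forall_eq 0 fun z => ?_
    obtain ⟨w, rfl⟩ := LinearMap.baseChange_surjective k N.mkQ_surjective z
    have hw : w ∈ Submodule.span k (s : Set (k ⊗[B] J)) := by rw [hspan]; trivial
    induction hw using Submodule.span_induction with
    | mem y hy =>
      rw [← show t (x ⟨y, hy⟩) = y from hx ⟨y, hy⟩]
      show (N.mkQ.baseChange k) (1 ⊗ₜ x ⟨y, hy⟩) = 0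
      rw [LinearMap.baseChange_tmul, Submodule.mkQ_apply,
        (Submodule.Quotient.mk_eq_zero N).2 (Submodule.subset_span ⟨e.symm ⟨y, hy⟩, by simp⟩), tmul_zero]
    | zero => exact map_zero _
    | add a b _ _ ha hb => rw [map_add, ha, hb, add_zero]
    | smul a b _ hb => rw [map_smul, hb, smul_zero]
  have hsupp : (⟨q, inferInstance⟩ : PrimeSpectrum B) ∉ Module.support B (↥J ⧸ N) := fun h =>
    not_nontrivial_iff_subsingleton.2 hN ((Module.mem_support_iff_nontrivial_residueField_tensorProduct _).1 h)
  rw [Module.notMem_support_iff'] at hsupp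
  refine le_antisymm ?_ (Ideal.span_le.2 ?_)
  · refine Ideal.map_le_iff_le_comap.2 fun y hy => ?_
    obtain ⟨r, hr, hry⟩ := hsupp (N.mkQ ⟨y, hy⟩)
    rw [← map_smul, Submodule.mkQ_apply, Submodule.Quotient.mk_eq_zero] at hry
    have h2 : r * y ∈ Ideal.span (Set.range fun i => (x (e i) : B)) := by
      have := Submodule.mem_map_of_mem (f := J.subtype) hry
      rw [Submodule.map_span, ← Set.range_comp] at this
      exact this
    rw [Ideal.mem_comap]
    have h3 := Ideal.mem_map_of_mem (algebraMap B (Localization.AtPrime q)) h2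
    rw [Ideal.map_span, ← Set.range_comp, map_mul] at h3
    exact (Ideal.unit_mul_mem_iff_mem _ (IsLocalization.map_units _ (⟨r, hr⟩ : q.primeCompl))).1 h3
  · rintro _ ⟨i, rfl⟩
    exact Ideal.mem_map_of_mem _ (x (e i)).2

end Groth.Agent.SmoothPairLib
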