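import Groth.Agent.SmoothPairLib.Ring
import Groth.Agent.SplitQuotLib.Scheme

/-!
# Étale coordinates for a smooth pair
-/

set_option autoImplicit false
set_option backward.isDefEq.respectTransparency false
set_option linter.style.haveILetI false

universe u

open CategoryTheory CategoryTheory.Limits AlgebraicGeometry TopologicalSpace Groth.Agent

noncomputable section

namespace Groth.Agent.SmoothPairLib

variable {S X : Scheme.{u}}

/-- Polynomial coordinates give an étale map to affine space. -/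
theorem etale_homOfVector (pX : X ⟶ S) {V : S.Opens} (hV : IsAffineOpen V) {U : X.Opens} (hU : IsAffineOpen U)
    (e : U ≤ pX ⁻¹ᵁ V) {σ : Type u} (χ : MvPolynomial σ Γ(S, V) →+* Γ(X, U))
    (hC : χ.comp MvPolynomial.C = (pX.appLE V U e).hom) (hχ : χ.Etale) :
    Etale (AffineSpace.homOfVector (U.ι ≫ pX) fun j => U.topIso.inv (χ (MvPolynomial.X j))) := by
  let φ : Spec (CommRingCat.of (MvPolynomial σ Γ(S, V))) ⟶ 𝔸(σ; S) :=
    (AffineSpace.SpecIso σ Γ(S, V)).inv ≫ AffineSpace.map σ hV.fromSpec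
  let ψ : Spec Γ(X, U) ⟶ Spec (CommRingCat.of (MvPolynomial σ Γ(S, V))) := Spec.map (CommRingCat.ofHom χ)
  haveI : IsOpenImmersion (AffineSpace.map σ hV.fromSpec) :=
    MorphismProperty.of_isPullback (P := @IsOpenImmersion) (AffineSpace.isPullback_map hV.fromSpec).flip inferInstance
  haveI : Etale ψ := by
    rw [HasRingHomProperty.Spec_iff (P := @Etale), CommRingCat.hom_ofHom]
    exact hχ
  have h : AffineSpace.homOfVector (U.ι ≫ pX) (fun j => U.topIso.inv (χ (MvPolynomial.X j))) =
      hU.isoSpec.hom ≫ ψ ≫ φ := by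
    refine AffineSpace.hom_ext ?_ fun j => ?_
    · rw [AffineSpace.homOfVector_over]
      simp only [φ, ψ, Category.assoc, AffineSpace.map_over, AffineSpace.SpecIso_inv_over_assoc]
      rw [← Spec.map_comp_assoc, ← CommRingCat.ofHom_comp, hC, CommRingCat.ofHom_hom,
        IsAffineOpen.SpecMap_appLE_fromSpec pX hV hU e, ← IsAffineOpen.isoSpec_hom_fromSpec_assoc hU]
    · rw [AffineSpace.homOfVector_appTop_coord, Scheme.Hom.comp_appTop, Scheme.Hom.comp_appTop]
      simp only [φ, Scheme.Hom.comp_appTop, CommRingCat.comp_apply, AffineSpace.map_appTop_coord,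
        AffineSpace.SpecIso_inv_appTop_coord, ψ]
      simp [IsAffineOpen.isoSpec, Scheme.isoSpec, Scheme.toSpecΓ_appTop]
      refine congrArg _ ((congrArg (fun g => g ((Scheme.ΓSpecIso (CommRingCat.of (MvPolynomial σ Γ(S, V)))).inv
        (MvPolynomial.X j))) (Scheme.ΓSpecIso_naturality (CommRingCat.ofHom χ))).trans ?_).symm
      simp
  rw [h]
  infer_instance

/-- The coordinate subspace cuts out a closed subscheme with the given equations. -/
theorem isPullback_of_gens {σ σ' : Type u} {U W : Scheme.{u}} [IsAffine U] (iU : W ⟶ U) [IsClosedImmersion iU]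
    (q : U ⟶ S) (v : σ → Γ(U, ⊤)) (ι₁ : σ' → σ) (c : σ → Γ(𝔸(σ'; S), ⊤))
    (hι : ∀ a, c (ι₁ a) = AffineSpace.coord S a) (hcz : ∀ j, j ∉ Set.range ι₁ → c j = 0)
    (hker : RingHom.ker iU.appTop.hom = Ideal.span (v '' (Set.range ι₁)ᶜ))
    (hι' : Function.Injective ι₁) :
    IsPullback (AffineSpace.homOfVector (iU ≫ q) fun a => iU.appTop (v (ι₁ a))) iU
      (AffineSpace.homOfVector (𝔸(σ'; S) ↘ S) c) (AffineSpace.homOfVector q v) := by
  let ρ := AffineSpace.homOfVector (iU ≫ q) fun a => iU.appTop (v (ι₁ a))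
  have w : ρ ≫ AffineSpace.homOfVector (𝔸(σ'; S) ↘ S) c = iU ≫ AffineSpace.homOfVector q v := by
    refine AffineSpace.hom_ext ?_ fun j => ?_
    · simp [ρ]
    · rw [Scheme.Hom.comp_appTop, Scheme.Hom.comp_appTop, CommRingCat.comp_apply, CommRingCat.comp_apply,
        AffineSpace.homOfVector_appTop_coord, AffineSpace.homOfVector_appTop_coord]
      by_cases hj : j ∈ Set.range ι₁
      · obtain ⟨a, rfl⟩ := hj
        rw [hι]
        exact AffineSpace.homOfVector_appTop_coord _ _ a
      · rw [hcz j hj, map_zero]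
        exact (RingHom.mem_ker.1 (hker.ge (Ideal.subset_span ⟨j, hj, rfl⟩))).symm
  have H : ∀ s : PullbackCone (AffineSpace.homOfVector (𝔸(σ'; S) ↘ S) c) (AffineSpace.homOfVector q v),
      iU.ker ≤ s.snd.ker := fun s => by
    have hz : ∀ j, j ∉ Set.range ι₁ → s.snd.appTop (v j) = 0 := fun j hj => by
      have := congrArg (fun m : s.pt ⟶ 𝔸(σ; S) => m.appTop (AffineSpace.coord S j)) s.condition
      simp only [Scheme.Hom.comp_appTop, CommRingCat.comp_apply, AffineSpace.homOfVector_appTop_coord, hcz j hj,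
        map_zero] at this
      exact this.symm
    refine Scheme.IdealSheafData.le_ofIdeals_iff.2 fun D => ?_
    rw [← iU.ker.map_ideal (U := D) (V := ⟨⊤, isAffineOpen_top U⟩) (le_top : D.1 ≤ ⊤), Ideal.map_le_iff_le_comap,
      Scheme.Hom.ker_apply]
    show RingHom.ker iU.appTop.hom ≤ _
    rw [hker, Ideal.span_le]
    rintro _ ⟨j, hj, rfl⟩
    rw [SetLike.mem_coe, Ideal.mem_comap, RingHom.mem_ker]
    show (U.presheaf.map (homOfLE le_top).op ≫ s.snd.app D.1) (v j) = 0
    rw [s.snd.naturality, CommRingCat.comp_apply]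
    exact (congrArg _ (hz j hj)).trans (map_zero _)
  refine IsPullback.of_isLimit' ⟨w⟩ (PullbackCone.IsLimit.mk w
    (fun s => IsClosedImmersion.lift iU s.snd (H s)) (fun s => ?_) (fun s => IsClosedImmersion.lift_fac _ _ _)
    fun s m _ hm => by rw [← cancel_mono iU, IsClosedImmersion.lift_fac]; exact hm)
  refine AffineSpace.hom_ext ?_ fun a => ?_
  · rw [Category.assoc, AffineSpace.homOfVector_over, IsClosedImmersion.lift_fac_assoc]
    have := congrArg (fun m : s.pt ⟶ 𝔸(σ; S) => m ≫ 𝔸(σ; S) ↘ S) s.condition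
    simp only [Category.assoc, AffineSpace.homOfVector_over] at this
    exact this.symm
  · rw [Scheme.Hom.comp_appTop, CommRingCat.comp_apply, AffineSpace.homOfVector_appTop_coord,
      ← CommRingCat.comp_apply, ← Scheme.Hom.comp_appTop, IsClosedImmersion.lift_fac]
    have := congrArg (fun m : s.pt ⟶ 𝔸(σ; S) => m.appTop (AffineSpace.coord S (ι₁ a))) s.condition
    simp only [Scheme.Hom.comp_appTop, CommRingCat.comp_apply, AffineSpace.homOfVector_appTop_coord, hι] at this
    exact this.symm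

end Groth.Agent.SmoothPairLib
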